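import Groth.Agent.H9Mult.Cases
import Groth.Agent.FlatX.FibreQuasi
import Groth.Agent.H23.GysinPb
import Groth.Agent.RegImmLib.TwoOfThree
import Groth.Agent.H23.RedSub
import Groth.Agent.H9PB.IntDeg
import Groth.Prelude.Def_Cyc

/-! Local rings of subvarieties at a point, and multiplicity one. -/

set_option autoImplicit false
set_option linter.style.haveILetI false
set_option backward.isDefEq.respectTransparency false
set_option backward.isDefEq.respectTransparency.types false
set_option maxHeartbeats 1000000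

universe u

open AlgebraicGeometry CategoryTheory Limits TopologicalSpace

noncomputable section

namespace Groth.Agent.H9Mult

open Groth.Agent DimFormula

variable {X : Scheme.{u}}

theorem stalkIdeal_eq_stI (I : X.IdealSheafData) (x : X) : IntMult.stalkIdeal I x = Div21Lib.stI I x := by
  obtain ⟨U, hU, hxU, -⟩ := exists_isAffineOpen_mem_and_subset (x := x) (U := ⊤) trivial
  rw [stalkIdeal_eq I ⟨U, hU⟩ hxU, Div21Lib.stI_eq I ⟨U, hU⟩ hxU]

theorem stalkIdeal_eq_top (I : X.IdealSheafData) {x : X} (hx : x ∉ I.support) : IntMult.stalkIdeal I x = ⊤ := by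
  obtain ⟨U, hU, hxU, -⟩ := exists_isAffineOpen_mem_and_subset (x := x) (U := ⊤) trivial
  rw [Scheme.IdealSheafData.mem_support_iff_of_mem (U := ⟨U, hU⟩) hxU, Scheme.mem_zeroLocus_iff] at hx
  push Not at hx
  obtain ⟨a, ha, hxa⟩ := hx
  rw [stalkIdeal_eq I ⟨U, hU⟩ hxU]
  exact Ideal.eq_top_of_isUnit_mem _ (Ideal.mem_map_of_mem _ ha) ((X.mem_basicOpen a x hxU).1 hxa)

/-- Nested primes with quotients of one dimension agree. -/
theorem eq_of_le_of_dim {A : Type u} [CommRing A] {P Q : Ideal A} [P.IsPrime] (hle : P ≤ Q) {a : ℕ}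
    (hP : ringKrullDim (A ⧸ P) ≤ (a : ℕ)) (hQ : ((a : ℕ) : WithBot ℕ∞) ≤ ringKrullDim (A ⧸ Q)) : P = Q := by
  refine le_antisymm hle fun z hz => ?_
  by_contra hzP
  have hz0 : Ideal.Quotient.mk P z ≠ 0 := fun h => hzP (Ideal.Quotient.eq_zero_iff_mem.1 h)
  have h := ringKrullDim_quotient_succ_le_of_nonZeroDivisor (mem_nonZeroDivisors_of_ne_zero hz0)
  have hs : Function.Surjective (Ideal.Quotient.lift (Ideal.span {Ideal.Quotient.mk P z})
      (Ideal.Quotient.factor hle) fun w hw => by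
        obtain ⟨c, rfl⟩ := Ideal.mem_span_singleton'.1 hw
        rw [map_mul, Ideal.Quotient.factor_mk, Ideal.Quotient.eq_zero_iff_mem.2 hz, mul_zero]) := by
    intro w
    obtain ⟨v, rfl⟩ := Ideal.Quotient.mk_surjective w
    exact ⟨Ideal.Quotient.mk _ (Ideal.Quotient.mk P v), rfl⟩
  have h3 : ((a : ℕ) : WithBot ℕ∞) + 1 ≤ (a : ℕ) :=
    ((add_le_add (hQ.trans (ringKrullDim_le_of_surjective _ hs)) le_rfl).trans h).trans hP
  have : a + 1 ≤ a := by exact_mod_cast h3
  omega

theorem stalkIdeal_mono {I J : X.IdealSheafData} (h : I ≤ J) (x : X) :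
    IntMult.stalkIdeal I x ≤ IntMult.stalkIdeal J x :=
  iSup₂_le fun V hV => (Ideal.map_mono (h V)).trans
    (le_iSup₂ (f := fun (V : X.affineOpens) (hV : x ∈ (V : X.Opens)) => (J.ideal V).map (X.presheaf.germ V x hV).hom) V hV)

/-- The closure of a point, as an integral subscheme. -/
theorem isIntegral_ptIdeal (ξ : X) : IsIntegral (IntMult.ptIdeal ξ).subscheme := by
  have hr : Set.range (IntMult.ptIdeal ξ).subschemeι = closure ({ξ} : Set X) :=
    H23.RedSub.range_vanishingIdeal _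
  haveI : IsReduced (IntMult.ptIdeal ξ).subscheme := by
    unfold IntMult.ptIdeal
    infer_instance
  exact H9DimInt.le_dim_component_inter.integral_of _ (hr.symm ▸ isIrreducible_singleton.closure)

theorem support_ptIdeal (ξ : X) : ((IntMult.ptIdeal ξ).support : Set X) = closure {ξ} := by
  rw [IntMult.ptIdeal, Scheme.IdealSheafData.coe_support_vanishingIdeal]
  rfl

variable {K : Type u} [Field K] (f : X ⟶ Spec (CommRingCat.of K)) [LocallyOfFiniteType f]
  {δ : X → ℤ} (hδ : Cyc.DeltaCompat f δ (fun _ => 0))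

include hδ in
theorem delta_eq (x : X) : δ x = (FibDim.rd f x : ℕ) := by
  rw [CycLib.deltaCompat_eq _ hδ, zero_add]

include hδ in
/-- The local dimension at `τ` of the closure of a point. -/
theorem exists_dim_ptIdeal {ξ τ : X} (h : ξ ⤳ τ) :
    ∃ a : ℕ, ringKrullDim (X.presheaf.stalk τ ⧸ IntMult.stalkIdeal (IntMult.ptIdeal ξ) τ) = a ∧
      (a : ℤ) = δ ξ - δ τ ∧ (IntMult.stalkIdeal (IntMult.ptIdeal ξ) τ).IsPrime := by
  haveI := FibDim.subsingleton_spec_field K
  haveI := isIntegral_ptIdeal ξ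
  let ι := (IntMult.ptIdeal ξ).subschemeι
  have hr : Set.range ι = closure ({ξ} : Set X) := H23.RedSub.range_vanishingIdeal _
  obtain ⟨w, hw⟩ : τ ∈ Set.range ι := by rw [hr]; exact specializes_iff_mem_closure.1 h
  subst hw
  have hdim : topologicalKrullDim ↥(IntMult.ptIdeal ξ).subscheme = (FibDim.rd f ξ : ℕ) := by
    rw [((ι.isEmbedding.toHomeomorph).trans (Homeomorph.setCongr hr)).isHomeomorph.topologicalKrullDim_eq,
      FibDim.topologicalKrullDim_closure f ξ]
    rfl
  obtain ⟨a, d', ha, hd', had⟩ := codim_add_rd (ι ≫ f) hdim w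
  obtain ⟨e⟩ := stalk_quot_equiv (IntMult.ptIdeal ξ) w
  haveI : IsDomain (X.presheaf.stalk (ι w) ⧸ IntMult.stalkIdeal (IntMult.ptIdeal ξ) (ι w)) := e.toMulEquiv.isDomain _
  refine ⟨a, (ringKrullDim_eq_of_ringEquiv e).trans ha, ?_, (Ideal.Quotient.isDomain_iff_prime _).1 inferInstance⟩
  rw [FibDim.rd_comp, FibDim.rd_eq_zero_of_quasiFinite ι, add_zero] at hd'
  rw [delta_eq f hδ, delta_eq f hδ]
  omega

/-- A point of a closed subscheme gives a prime over its ideal. -/
theorem stalkIdeal_le_ptIdeal {Y : Scheme.{u}} (ι : Y ⟶ X) [IsClosedImmersion ι] (y : Y) {ξ : X}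
    (hξ : ξ ∈ Set.range ι) :
    RingHom.ker (ι.stalkMap y).hom ≤ IntMult.stalkIdeal (IntMult.ptIdeal ξ) (ι y) := by
  rw [FlatX.ker_stalkMap_eq_stI, ← stalkIdeal_eq_stI]
  refine stalkIdeal_mono ?_ _
  rw [IntMult.ptIdeal, ← Scheme.IdealSheafData.le_support_iff_le_vanishingIdeal]
  intro z hz
  exact ι.ker.support.isClosed.closure_subset_iff.2
    (Set.singleton_subset_iff.2 (ι.range_subset_ker_support hξ)) hz

theorem stalk_length_one_of_isField {R : Type u} [CommRing R] (h : IsField R) : Module.length R R = 1 := by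
  letI := h.toField
  rw [Module.length_eq_one_iff]
  infer_instance

/-- Closed subscheme with reduced irreducible germ at a point: its coefficient is one. -/
theorem subschemeFun_eq_one {Y : Scheme.{u}} (ι : Y ⟶ X) [IsClosedImmersion ι] (y : Y) {ξ : X} (h : ξ ⤳ ι y)
    (hker : RingHom.ker (ι.stalkMap y).hom = IntMult.stalkIdeal (IntMult.ptIdeal ξ) (ι y)) (hξ : ξ ∈ Set.range ι)
    (δ : X → ℤ) : Cyc.subschemeFun δ (δ ξ) ι ξ = 1 := by
  obtain ⟨z, rfl⟩ := hξ
  rw [Cyc.subschemeFun, if_pos rfl,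
    show {z' : Y | ι z' = ι z} = {z} from Set.ext fun z' => ι.isEmbedding.injective.eq_iff, finsum_mem_singleton]
  haveI := isIntegral_ptIdeal (ι z)
  let j := (IntMult.ptIdeal (ι z)).subschemeι
  have hr : Set.range j = closure ({ι z} : Set X) := H23.RedSub.range_vanishingIdeal _
  obtain ⟨g, hg⟩ : ι z ∈ Set.range j := by rw [hr]; exact subset_closure rfl
  have hgen : g = genericPoint (IntMult.ptIdeal (ι z)).subscheme := by
    refine ((genericPoint_spec _).specializes (Set.mem_univ g)).antisymm ?_ |>.eq.symm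
    rw [← j.isEmbedding.isInducing.specializes_iff, hg]
    exact specializes_iff_mem_closure.2 (hr.le ⟨_, rfl⟩)
  have hz : ι.ker.ideal = ι.ker.ideal := rfl
  have hmax : Div21Lib.stI ι.ker (ι z) = Div21Lib.stI (IntMult.ptIdeal (ι z)) (ι z) := by
    rw [← Div21Lib.stI_generize ι.ker h, ← Div21Lib.stI_generize (IntMult.ptIdeal (ι z)) h,
      ← FlatX.ker_stalkMap_eq_stI, hker, stalkIdeal_eq_stI]
  have hfld : IsField ((IntMult.ptIdeal (ι z)).subscheme.presheaf.stalk g) := by
    subst hgen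
    exact Field.toIsField (IntMult.ptIdeal (ι z)).subscheme.functionField
  have e1 : Y.presheaf.stalk z ≃+* X.presheaf.stalk (ι z) ⧸ Div21Lib.stI ι.ker (ι z) :=
    ((Ideal.quotEquivOfEq (FlatX.ker_stalkMap_eq_stI ι z).symm).trans
      (RingHom.quotientKerEquivOfSurjective (ι.stalkMap_surjective z))).symm
  have hfldY : IsField (Y.presheaf.stalk z) := by
    refine (MulEquiv.isField · (e1.trans (Ideal.quotEquivOfEq hmax)).toMulEquiv) ?_
    obtain ⟨e⟩ := stalk_quot_equiv (IntMult.ptIdeal (ι z)) g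
    rw [hg] at e
    exact MulEquiv.isField hfld ((Ideal.quotEquivOfEq (stalkIdeal_eq_stI _ _).symm).trans e).toMulEquiv
  rw [stalk_length_one_of_isField hfldY]
  rfl

end Groth.Agent.H9Mult

end
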