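import Groth.Agent.CAlgOdd.Acyclicity
import Groth.Agent.CAlgOdd.AuslanderBuchsbaum
import Groth.Agent.TorBridge.KerNat
import Groth.Agent.TorBridge.LES
import Groth.Agent.H9Misc.TorBalance
import Groth.Agent.S0563
import Groth.Prelude.Def_IntMult

/-! Cohen–Macaulay modules meeting properly over a regular local ring are Tor-independent. -/

set_option autoImplicit false
set_option linter.style.haveILetI false
set_option backward.isDefEq.respectTransparency false
set_option backward.isDefEq.respectTransparency.types false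
set_option maxHeartbeats 1000000

universe u

open CategoryTheory CategoryTheory.Limits MonoidalCategory IsLocalRing TensorProduct

noncomputable section

namespace Groth.Agent.H9Mult

open Groth.Agent Groth.Agent.RegLoc6 Groth.Agent.CAlgOdd.Acyclicity

variable {A : Type u} [CommRing A]

/-- The `Tor` of two modules, as an object. -/
abbrev torObj (i : ℕ) (K X : ModuleCat.{u} A) : ModuleCat.{u} A :=
  ((Tor (ModuleCat.{u} A) i).obj K).obj X

theorem smul_tor_eq_zero (K X : ModuleCat.{u} A) (i : ℕ) (a : A) (ha : ∀ z : K, a • z = 0)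
    (t : torObj i K X) : a • t = 0 := by
  let P : ProjectiveResolution X := ProjectiveResolution.of _
  let C := ((TorBridge.tenF K).mapHomologicalComplex (ComplexShape.down ℕ)).obj P.complex
  let e : torObj i K X ≅ C.homology i := P.isoLeftDerivedObj (TorBridge.tenF K) i
  have hC : ∀ w : C.X i, a • w = 0 := fun w => by
    refine TensorProduct.induction_on (motive := fun z : (K : Type u) ⊗[A] (P.complex.X i : Type u) => a • z = 0) w ?_ ?_ ?_
    · exact smul_zero a
    · intro z p
      rw [TensorProduct.smul_tmul', ha, TensorProduct.zero_tmul]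
    · intro p q hp hq
      rw [smul_add, hp, hq, add_zero]
  obtain ⟨z, hz⟩ := (ModuleCat.epi_iff_surjective (C.homologyπ i)).1 inferInstance (e.hom t)
  have hz0 : a • z = 0 := (ModuleCat.mono_iff_injective (C.iCycles i)).1 inferInstance (by
    rw [map_smul, hC, map_zero])
  refine (e.toLinearEquiv.map_eq_zero_iff).1 ?_
  show e.hom (a • t) = 0
  rw [map_smul, ← hz, ← map_smul, hz0, map_zero]

theorem smul_tor_eq_zero_right (K X : ModuleCat.{u} A) (i : ℕ) (a : A) (ha : ∀ z : X, a • z = 0)
    (t : torObj i K X) : a • t = 0 := by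
  refine ((H9Misc.TorBalance.torSymm K X i).toLinearEquiv.map_eq_zero_iff).1 ?_
  rw [map_smul]
  exact smul_tor_eq_zero X K i a ha _

theorem mem_annihilator_tor_of_mem_sup {K X : ModuleCat.{u} A} (i : ℕ) {a : A}
    (ha : a ∈ Module.annihilator A K ⊔ Module.annihilator A X) (t : torObj i K X) : a • t = 0 := by
  obtain ⟨b, hb, c, hc, rfl⟩ := Submodule.mem_sup.1 ha
  rw [add_smul, smul_tor_eq_zero K X i b (Module.mem_annihilator.1 hb),
    smul_tor_eq_zero_right K X i c (Module.mem_annihilator.1 hc), add_zero]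

/-- Dimension shifting in the first variable. -/
theorem nonempty_tor_iso_syzygy {S : ShortComplex (ModuleCat.{u} A)} (hS : S.ShortExact) [Module.Flat A S.X₂]
    (X : ModuleCat.{u} A) (i : ℕ) :
    Nonempty (torObj (i + 2) S.X₃ X ≅ torObj (i + 1) S.X₁ X) := by
  let P : ProjectiveResolution X := projectiveResolution X
  have hT := TorBridge.KerNat.seq_shortExact hS P
  have h2 : ∀ j, IsZero ((((TorBridge.KerNat.ten S.X₂).mapHomologicalComplex _).obj P.complex).homology (j + 1)) :=
    fun j => ((TorBridge.isZero_tor_succ_of_flat S.X₂ X j).of_iso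
      (P.isoLeftDerivedObj (TorBridge.KerNat.ten S.X₂) (j + 1)).symm)
  haveI : Mono (hT.δ (i + 2) (i + 1) rfl) := (hT.homology_exact₃ (i + 2) (i + 1) rfl).mono_g
    ((h2 (i + 1)).eq_of_src _ _)
  haveI : Epi (hT.δ (i + 2) (i + 1) rfl) := (hT.homology_exact₁ (i + 2) (i + 1) rfl).epi_f
    ((h2 i).eq_of_tgt _ _)
  haveI : IsIso (hT.δ (i + 2) (i + 1) rfl) := isIso_of_mono_of_epi _
  exact ⟨P.isoLeftDerivedObj (TorBridge.KerNat.ten S.X₃) (i + 2) ≪≫ asIso (hT.δ (i + 2) (i + 1) rfl) ≪≫
    (P.isoLeftDerivedObj (TorBridge.KerNat.ten S.X₁) (i + 1)).symm⟩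

variable [IsLocalRing A] [IsNoetherianRing A]

/-- A module of positive depth has no element killed by a power of the maximal ideal. -/
theorem eq_zero_of_pow_smul {Y : ModuleCat.{u} A} (hY : DepthGE 1 Y) :
    ∀ (e : ℕ) (y : Y), (∀ a ∈ maximalIdeal A ^ e, a • y = 0) → y = 0 := by
  intro e
  induction e with
  | zero => exact fun y hy => by simpa using hy 1 (by simp)
  | succ e ih =>
    intro y hy
    refine ih y fun a ha => ?_
    let f : ModuleCat.of A (A ⧸ maximalIdeal A) ⟶ Y :=
      ModuleCat.ofHom ((maximalIdeal A).liftQ (LinearMap.toSpanSingleton A Y (a • y)) fun b hb => by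
        show b • (a • y) = 0
        rw [smul_smul]
        exact hy _ (by rw [pow_succ']; exact Ideal.mul_mem_mul hb ha))
    have hs := hY 0 one_pos
    have h0 : f = 0 := (Abelian.Ext.mk₀_bijective _ _).1 (@Subsingleton.elim _ hs (Abelian.Ext.mk₀ f) (Abelian.Ext.mk₀ 0))
    have h1 := congrArg (fun g : ModuleCat.of A (A ⧸ maximalIdeal A) ⟶ Y => g.hom (Submodule.Quotient.mk (1 : A))) h0
    exact (one_smul A (a • y)).symm.trans h1

theorem depthGE_pi_tensor (n d : ℕ) (X : Type u) [AddCommGroup X] [Module A X] [Module.Finite A X]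
    (hd : (d : ℕ∞) ≤ LocCoh.depth A X) :
    DepthGE d (ModuleCat.of A ((Fin n → A) ⊗[A] X)) := by
  classical
  rcases n with _ | n
  · haveI : Subsingleton ((Fin 0 → A) ⊗[A] X) :=
      ((TensorProduct.comm A _ X).trans (TensorProduct.piScalarRight A A X (Fin 0))).toEquiv.subsingleton
    exact depthGE_of_isZero d (ModuleCat.isZero_of_subsingleton _)
  · rw [depthGE_iff]
    show (d : ℕ∞) ≤ LocCoh.depth A ((Fin (n + 1) → A) ⊗[A] X)
    rw [Hensel.depth_congr ((TensorProduct.comm A _ X).trans (TensorProduct.piScalarRight A A X (Fin (n + 1)))),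
      FlatLoc6.depth_pi X n]
    exact hd

/-- Finite-length Tor against a deep enough module vanishes. -/
theorem tor_vanish (X : Type u) [AddCommGroup X] [Module A X] [Module.Finite A X] (d e : ℕ)
    (hd : (d : ℕ∞) ≤ LocCoh.depth A X) :
    ∀ (q : ℕ) (K : Type u) [AddCommGroup K] [Module A K] [Module.Finite A K], q ≤ d → PdLE A q K →
      (∀ (i : ℕ) (a : A), a ∈ maximalIdeal A ^ e → ∀ t : torObj (i + 1) (ModuleCat.of A K) (ModuleCat.of A X),
        a • t = 0) →
      (∀ i, Subsingleton (torObj (i + 1) (ModuleCat.of A K) (ModuleCat.of A X))) ∧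
        DepthGE (d - q) (ModuleCat.of A (K ⊗[A] X)) := by
  intro q
  induction q with
  | zero =>
    intro K _ _ _ _ hK _
    haveI : Module.Projective A K := pdLE_zero_iff.1 hK
    refine ⟨fun i => ModuleCat.isZero_iff_subsingleton.1
      (TorBridge.isZero_tor_succ_of_flat (ModuleCat.of A K) (ModuleCat.of A X) i), ?_⟩
    haveI : Module.Free A K := Module.free_of_flat_of_isLocalRing
    rw [Nat.sub_zero, depthGE_iff]
    have h := depthGE_pi_tensor (Module.finrank A K) d X hd
    rw [depthGE_iff] at h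
    exact h.trans_eq (Hensel.depth_congr (TensorProduct.congr (Module.finBasis A K).equivFun (LinearEquiv.refl A X))).symm
  | succ q ih =>
    intro K _ _ _ hq hK hkill
    obtain ⟨n, g, hg⟩ := Module.Finite.exists_fin' A K
    let K' := LinearMap.ker g
    have hK' : PdLE A q K' := (pdLE_succ_iff g hg).1 hK
    have hS := LinearMap.shortExact_shortComplexKer hg
    let S := g.shortComplexKer
    haveI : Module.Flat A S.X₂ := inferInstanceAs (Module.Flat A (Fin n → A))
    have hkill' : ∀ (i : ℕ) (a : A), a ∈ maximalIdeal A ^ e →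
        ∀ t : torObj (i + 1) (ModuleCat.of A K') (ModuleCat.of A X), a • t = 0 := by
      intro i a ha t
      obtain ⟨φ⟩ := nonempty_tor_iso_syzygy (S := S) hS (ModuleCat.of A X) i
      refine (φ.toLinearEquiv.symm.map_eq_zero_iff).1 ?_
      rw [map_smul]
      exact hkill (i + 1) a ha _
    obtain ⟨hv, hdep⟩ := ih K' (by omega) hK' hkill'
    let θ := TorBridge.KerNat.θ hS (ModuleCat.of A X)
    have hθ := TorBridge.KerNat.θ_injective hS (ModuleCat.of A X)
    have hdep1 : DepthGE 1 (ModuleCat.of A ((K' : Type u) ⊗[A] X)) := fun t ht => hdep t (by omega)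
    have h1 : Subsingleton (torObj 1 (ModuleCat.of A K) (ModuleCat.of A X)) := by
      refine subsingleton_of_forall_eq 0 fun t => hθ ?_
      rw [map_zero]
      refine eq_zero_of_pow_smul hdep1 e _ fun a ha => ?_
      exact (map_smul θ.hom a t).symm.trans ((congrArg θ.hom (hkill 0 a ha t)).trans (map_zero _))
    refine ⟨fun i => ?_, ?_⟩
    · rcases i with _ | i
      · exact h1
      · obtain ⟨φ⟩ := nonempty_tor_iso_syzygy (S := S) hS (ModuleCat.of A X) i
        exact @Equiv.subsingleton _ _ φ.toLinearEquiv.toEquiv (hv i)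
    · have hex : Function.Exact θ.hom ((LinearMap.ker g).subtype.rTensor X) :=
        TorBridge.KerNat.θ_range hS (ModuleCat.of A X)
      have hinj : Function.Injective ((LinearMap.ker g).subtype.rTensor X) :=
        (injective_iff_map_eq_zero _).2 fun w hw => by
          obtain ⟨t, rfl⟩ := (hex w).1 hw
          rw [show t = 0 from @Subsingleton.elim _ h1 _ _, map_zero]
      let T : ShortComplex (ModuleCat.{u} A) :=
        ShortComplex.mk (X₁ := ModuleCat.of A ((LinearMap.ker g) ⊗[A] X)) (X₂ := ModuleCat.of A ((Fin n → A) ⊗[A] X))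
          (X₃ := ModuleCat.of A (K ⊗[A] X))
          (ModuleCat.ofHom ((LinearMap.ker g).subtype.rTensor X)) (ModuleCat.ofHom (g.rTensor X))
          (ModuleCat.hom_ext (by
            show g.rTensor X ∘ₗ (LinearMap.ker g).subtype.rTensor X = 0
            rw [← LinearMap.rTensor_comp, LinearMap.comp_ker_subtype, LinearMap.rTensor_zero]))
      have hT : T.ShortExact :=
        { exact := (ShortComplex.ShortExact.moduleCat_exact_iff_function_exact _).2
            (rTensor_exact X (LinearMap.exact_subtype_ker_map g) hg)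
          mono_f := (ModuleCat.mono_iff_injective _).2 hinj
          epi_g := (ModuleCat.epi_iff_surjective _).2 (LinearMap.rTensor_surjective X hg) }
      intro t ht
      exact LC.ext_subsingleton_X₃ hT _ t (depthGE_pi_tensor n d X hd t (by omega)) (hdep (t + 1) (by omega))

omit [IsLocalRing A] [IsNoetherianRing A] in
/-- `Tor₀` is the tensor product. -/
theorem nonempty_tor_zero (K X : ModuleCat.{u} A) :
    Nonempty (torObj 0 K X ≃ₗ[A] (K : Type u) ⊗[A] (X : Type u)) :=
  ⟨((TorBridge.tenF K).leftDerivedZeroIsoSelf.app X).toLinearEquiv⟩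

omit [IsNoetherianRing A] in
/-- Euler characteristic of two Tor-independent cyclic modules. -/
theorem chi_of_vanish (I J : Ideal A)
    (h : ∀ i, Subsingleton (torObj (i + 1) (ModuleCat.of A (A ⧸ I)) (ModuleCat.of A (A ⧸ J)))) :
    IntMult.chi A (A ⧸ I) (A ⧸ J) = ((Module.length A (A ⧸ (I ⊔ J))).toNat : ℤ) := by
  rw [IntMult.chi, finsum_eq_single _ 0]
  · obtain ⟨e⟩ := nonempty_tor_zero (ModuleCat.of A (A ⧸ I)) (ModuleCat.of A (A ⧸ J))
    have hmap : (I • ⊤ : Submodule A (A ⧸ J)) = Submodule.map J.mkQ I := by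
      rw [← show (I • ⊤ : Submodule A A) = I by rw [Ideal.smul_eq_mul, Ideal.mul_top], Submodule.map_smul'',
        Submodule.map_top, Submodule.range_mkQ, show (I • ⊤ : Submodule A A) = I by rw [Ideal.smul_eq_mul, Ideal.mul_top]]
    let e' : (A ⧸ I) ⊗[A] (A ⧸ J) ≃ₗ[A] A ⧸ (I ⊔ J) :=
      (TensorProduct.quotTensorEquivQuotSMul (A ⧸ J) I).trans ((Submodule.quotEquivOfEq _ _ hmap).trans
        ((Submodule.quotientQuotientEquivQuotientSup J I).trans (Submodule.quotEquivOfEq _ _ (sup_comm J I))))
    rw [pow_zero, one_mul]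
    exact congrArg (fun l : ℕ∞ => (l.toNat : ℤ)) ((e.trans e').length_eq)
  · intro i hi
    obtain ⟨j, rfl⟩ := Nat.exists_eq_succ_of_ne_zero hi
    haveI := h j
    rw [show Module.length A (DRing.Tor A (j + 1) (A ⧸ I) (A ⧸ J)) = 0 from Module.length_eq_zero_iff.2 (h j)]
    simp

end Groth.Agent.H9Mult

end
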