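import Groth.Agent.H9Mult.Geom
import Groth.Agent.CotTLib.CI

/-! Special cases. -/

set_option autoImplicit false
set_option linter.style.haveILetI false
set_option backward.isDefEq.respectTransparency false
set_option backward.isDefEq.respectTransparency.types false

universe u

open IsLocalRing

noncomputable section

namespace Groth.Agent.H9Mult

open Groth.Agent Groth.Agent.RegLoc6

variable {A : Type u} [CommRing A] [IsRegularLocalRing A]

/-- A regular local ring modulo a regular sequence is Cohen–Macaulay. -/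
theorem isCM_quot_regular (rs : List A) (h : RingTheory.Sequence.IsRegular A rs) (I : Ideal A)
    (hI : I = Ideal.ofList rs) : LocCoh.IsCohenMacaulayLocalRing (A ⧸ I) := by
  subst hI
  have hCM : LocCoh.IsCohenMacaulayModule A A := CotTLib.isCM_of_isRegularLocalRing A
  have hne : Ideal.ofList rs ≠ ⊤ := fun he => h.top_ne_smul (by rw [he, Ideal.smul_eq_mul, Ideal.mul_top])
  have hmem : ∀ r ∈ rs, r ∈ maximalIdeal A := fun r hr =>
    le_maximalIdeal hne (Ideal.subset_span hr)
  have h1 := LC.isCM_quot_ofList A hCM h.toIsWeaklyRegular hmem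
  unfold LocCoh.IsCohenMacaulayModule at h1
  haveI : Nontrivial (A ⧸ Ideal.ofList rs) := Ideal.Quotient.nontrivial_iff.2 hne
  haveI : IsLocalRing (A ⧸ Ideal.ofList rs) :=
    IsLocalRing.of_surjective' (Ideal.Quotient.mk _) Ideal.Quotient.mk_surjective
  refine { supportDim_eq_depth := ?_ }
  rw [Module.supportDim_self_eq_ringKrullDim, ← Alg6.depth_eq_of_semilinear (Ideal.Quotient.mk (Ideal.ofList rs))
    Ideal.Quotient.mk_surjective (AddEquiv.refl (A ⧸ Ideal.ofList rs)) fun r x => rfl]
  have e : (Ideal.ofList rs • ⊤ : Submodule A A) = Ideal.ofList rs := by rw [Ideal.smul_eq_mul, Ideal.mul_top]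
  rw [Module.supportDim_eq_of_equiv (Submodule.quotEquivOfEq _ _ e),
    Hensel.depth_congr (Submodule.quotEquivOfEq _ _ e)] at h1
  rw [← h1, Module.supportDim_quotient_eq_ringKrullDim]

/-- A Cartier divisor meeting an integral subscheme properly. -/
theorem chi_cartier (g : A) (hg : IsSMulRegular A g) (J : Ideal A) [J.IsPrime]
    (hdim : ringKrullDim A ≤ ringKrullDim (A ⧸ Ideal.span {g}) + ringKrullDim (A ⧸ J))
    (hne : Ideal.span {g} ≠ ⊤) (hfin : ∃ e : ℕ, maximalIdeal A ^ e ≤ J ⊔ Ideal.span {g}) :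
    IntMult.chi A (A ⧸ J) (A ⧸ Ideal.span {g}) = ((Module.length A (A ⧸ (J ⊔ Ideal.span {g}))).toNat : ℤ) := by
  obtain ⟨e, he⟩ := hfin
  have hgm : g ∈ maximalIdeal A := le_maximalIdeal hne (Ideal.mem_span_singleton_self g)
  have hpd : PdLE A 1 (A ⧸ Ideal.span {g}) := by
    refine pdLE_succ_of_ker (Submodule.mkQ (Ideal.span {g})) (Submodule.mkQ_surjective _) ?_ (pdLE_of_projective 1)
    rw [Submodule.ker_mkQ]
    haveI : Module.Projective A ↥(Ideal.span {g} : Ideal A) :=
      Module.Projective.of_equiv ((LinearEquiv.ofInjective (LinearMap.toSpanSingleton A A g) (fun x y h => hg (by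
        simpa [mul_comm] using h))).trans (LinearEquiv.ofEq _ _ (LinearMap.range_toSpanSingleton g)))
    exact pdLE_zero_iff.2 inferInstance
  have hdep : ((1 : ℕ) : ℕ∞) ≤ LocCoh.depth A (A ⧸ J) := by
    rw [Nat.cast_one, Alg6.one_le_depth_iff]
    intro hass
    have hJ : maximalIdeal A = J := by
      have h2 := associatedPrimes.eq_singleton_of_isPrimary (I := J) (Ideal.IsPrime.isPrimary inferInstance)
      have h3 : maximalIdeal A ∈ associatedPrimes A (A ⧸ J) := hass
      rw [h2, Set.mem_singleton_iff, Ideal.IsPrime.radical inferInstance] at h3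
      exact h3
    subst hJ
    have h0 : ringKrullDim (A ⧸ maximalIdeal A) = 0 := by
      letI := Ideal.Quotient.field (maximalIdeal A)
      exact ringKrullDim_eq_zero_of_field _
    rw [h0, add_zero] at hdim
    have hlt := ringKrullDim_quotient_succ_le_of_nonZeroDivisor
      (show g ∈ nonZeroDivisors A from mem_nonZeroDivisors_iff_right.2 fun z hz => hg (show g • z = g • (0 : A) by simp only [smul_eq_mul, mul_zero]; rwa [mul_comm] at hz))
    obtain ⟨D, hD⟩ : ∃ D : ℕ, ringKrullDim A = D := ⟨_, ((isRegularLocalRing_iff _).1 inferInstance).symm⟩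
    haveI : Nontrivial (A ⧸ Ideal.span {g}) := Ideal.Quotient.nontrivial_iff.2 hne
    obtain ⟨a, ha⟩ := chi_eq_length.exists_nat_dim ((ringKrullDim_quotient_le (Ideal.span {g})).trans hD.le)
    rw [hD, ha] at hdim hlt
    have h4 : a + 1 ≤ D := by exact_mod_cast hlt
    have h5 : D ≤ a := by exact_mod_cast hdim
    omega
  have hv := (tor_vanish (A ⧸ J) 1 e hdep 1 (A ⧸ Ideal.span {g}) le_rfl hpd fun i r hr t =>
    mem_annihilator_tor_of_mem_sup (i + 1) (by
      show r ∈ Module.annihilator A (A ⧸ Ideal.span {g}) ⊔ Module.annihilator A (A ⧸ J)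
      rw [Ideal.annihilator_quotient, Ideal.annihilator_quotient, sup_comm]
      exact he hr) t).1
  exact chi_of_vanish _ _ fun i => @Equiv.subsingleton _ _
    ((H9Misc.TorBalance.torSymm (ModuleCat.of A (A ⧸ J)) (ModuleCat.of A (A ⧸ Ideal.span {g})) (i + 1)).toLinearEquiv.toEquiv)
    (hv i)

/-- Two quotients meeting transversally in the proper dimension are regular. -/
theorem isRegular_quot_of_sup_eq (I J : Ideal A) (hsup : I ⊔ J = maximalIdeal A) (hI : I ≠ ⊤) (hJ : J ≠ ⊤)
    (hdim : ringKrullDim A ≤ ringKrullDim (A ⧸ I) + ringKrullDim (A ⧸ J)) :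
    IsRegularLocalRing (A ⧸ I) ∧ IsRegularLocalRing (A ⧸ J) ∧
      ringKrullDim (A ⧸ I) + ringKrullDim (A ⧸ J) ≤ ringKrullDim A := by
  classical
  let S : Set (maximalIdeal A) := {z | (z : A) ∈ I ∨ (z : A) ∈ J}
  have hS : Submodule.span A S = ⊤ := by
    rw [eq_top_iff]
    intro z _
    have hz : (z : A) ∈ I ⊔ J := hsup.symm ▸ z.2
    obtain ⟨x, hx, y, hy, hxy⟩ := Submodule.mem_sup.1 hz
    have e : z = ⟨x, hsup ▸ Submodule.mem_sup_left hx⟩ + ⟨y, hsup ▸ Submodule.mem_sup_right hy⟩ := Subtype.ext hxy.symm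
    rw [e]
    exact add_mem (Submodule.subset_span (Or.inl hx)) (Submodule.subset_span (Or.inr hy))
  obtain ⟨b, hbS, hbspan, hbli⟩ := exists_linearIndependent (ResidueField A) ((maximalIdeal A).toCotangent '' S)
  rw [CotangentSpace.span_image_eq_top_iff.2 hS] at hbspan
  let B := Module.Basis.mk hbli (by rw [Subtype.range_coe_subtype]; exact hbspan.ge)
  haveI : Fintype b := FiniteDimensional.fintypeBasisIndex B
  choose g hg hgb using fun v : b => hbS v.2
  have hcard : Fintype.card b = (maximalIdeal A).spanFinrank := by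
    rw [spanFinrank_maximalIdeal_eq_finrank_cotangentSpace, Module.finrank_eq_card_basis B]
  have hgspan : Submodule.span A (Set.range g) = ⊤ := by
    rw [← CotangentSpace.span_image_eq_top_iff, ← Set.range_comp,
      show ((maximalIdeal A).toCotangent ∘ g) = Subtype.val from funext hgb, Subtype.range_coe_subtype]
    exact hbspan
  have hm : ∀ w : A, w ∈ maximalIdeal A → w ∈ Ideal.span (Set.range fun v => (g v : A)) := fun w hw => by
    have h1 := Submodule.mem_map_of_mem (f := (maximalIdeal A).subtype)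
      (show (⟨w, hw⟩ : maximalIdeal A) ∈ Submodule.span A (Set.range g) by rw [hgspan]; trivial)
    rw [Submodule.map_span, ← Set.range_comp] at h1
    exact h1
  let bI := Finset.univ.filter fun v : b => (g v : A) ∈ I
  let bJ := Finset.univ.filter fun v : b => ¬ (g v : A) ∈ I
  have key : ∀ (K : Ideal A) (_ : K ≠ ⊤) (T : Finset b), (∀ v, v ∉ T → (g v : A) ∈ K) →
      ∀ [IsLocalRing (A ⧸ K)], (maximalIdeal (A ⧸ K)).spanFinrank ≤ T.card := by
    intro K hK T hT _
    have hle : maximalIdeal (A ⧸ K) ≤ Submodule.span (A ⧸ K) (T.image fun v => Ideal.Quotient.mk K (g v) : Finset (A ⧸ K)) := by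
      intro z hz
      obtain ⟨w, rfl⟩ := Ideal.Quotient.mk_surjective z
      have hw : w ∈ maximalIdeal A := fun hu => hz (hu.map _)
      have h1 := Ideal.mem_map_of_mem (Ideal.Quotient.mk K) (hm w hw)
      rw [Ideal.map_span] at h1
      refine Ideal.span_le.2 ?_ h1
      rintro _ ⟨_, ⟨v, rfl⟩, rfl⟩
      by_cases hv : v ∈ T
      · exact Submodule.subset_span (Finset.mem_coe.2 (Finset.mem_image_of_mem _ hv))
      · rw [Ideal.Quotient.eq_zero_iff_mem.2 (hT v hv)]
        exact zero_mem _
    haveI : IsNoetherianRing (A ⧸ K) := inferInstance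
    have heq : maximalIdeal (A ⧸ K) = Submodule.span (A ⧸ K) (T.image fun v => Ideal.Quotient.mk K (g v) : Finset (A ⧸ K)) :=
      le_antisymm hle (Ideal.span_le.2 fun z hz => by
        obtain ⟨v, -, rfl⟩ := Finset.mem_image.1 (Finset.mem_coe.1 hz)
        intro hu
        haveI : IsLocalHom (Ideal.Quotient.mk K) := IsLocalHom.of_surjective _ Ideal.Quotient.mk_surjective
        exact (g v).2 (isUnit_of_map_unit (Ideal.Quotient.mk K) _ hu))
    rw [heq]
    refine (Submodule.spanFinrank_span_le_ncard_of_finite (Finset.finite_toSet _)).trans ?_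
    rw [Set.ncard_coe_finset]
    exact Finset.card_image_le
  haveI : Nontrivial (A ⧸ I) := Ideal.Quotient.nontrivial_iff.2 hI
  haveI : Nontrivial (A ⧸ J) := Ideal.Quotient.nontrivial_iff.2 hJ
  haveI : IsLocalRing (A ⧸ I) := IsLocalRing.of_surjective' (Ideal.Quotient.mk _) Ideal.Quotient.mk_surjective
  haveI : IsLocalRing (A ⧸ J) := IsLocalRing.of_surjective' (Ideal.Quotient.mk _) Ideal.Quotient.mk_surjective
  haveI : IsLocalHom (Ideal.Quotient.mk I) := IsLocalHom.of_surjective _ Ideal.Quotient.mk_surjective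
  have h1 := key I hI bJ fun v hv => by simpa [bJ] using hv
  have h2 := key J hJ bI fun v hv => by
    have hv' : (g v : A) ∉ I := by simpa [bI] using hv
    exact (hg v).resolve_left hv'
  have hsum : bI.card + bJ.card = (maximalIdeal A).spanFinrank := by
    rw [Finset.card_filter_add_card_filter_not, Finset.card_univ, hcard]
  have hle1 := ringKrullDim_le_spanFinrank_maximalIdeal (R := A ⧸ I)
  have hle2 := ringKrullDim_le_spanFinrank_maximalIdeal (R := A ⧸ J)
  obtain ⟨a, ha⟩ := chi_eq_length.exists_nat_dim hle1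
  obtain ⟨c, hc⟩ := chi_eq_length.exists_nat_dim hle2
  have hD : ((maximalIdeal A).spanFinrank : WithBot ℕ∞) = ringKrullDim A := (isRegularLocalRing_iff A).1 inferInstance
  rw [← hD, ha, hc] at hdim
  rw [ha] at hle1
  rw [hc] at hle2
  have e0 : (maximalIdeal A).spanFinrank ≤ a + c := by exact_mod_cast hdim
  have e1 : a ≤ (maximalIdeal (A ⧸ I)).spanFinrank := by exact_mod_cast hle1
  have e2 : c ≤ (maximalIdeal (A ⧸ J)).spanFinrank := by exact_mod_cast hle2
  refine ⟨IsRegularLocalRing.of_spanFinrank_maximalIdeal_le _ ?_, IsRegularLocalRing.of_spanFinrank_maximalIdeal_le _ ?_,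
    by rw [ha, hc, ← hD]; exact_mod_cast (by omega : a + c ≤ (maximalIdeal A).spanFinrank)⟩
  · rw [ha]; exact_mod_cast (by omega : (maximalIdeal (A ⧸ I)).spanFinrank ≤ a)
  · rw [hc]; exact_mod_cast (by omega : (maximalIdeal (A ⧸ J)).spanFinrank ≤ c)

omit [IsRegularLocalRing A] in
/-- A regular local ring is Cohen–Macaulay. -/
theorem isCM_of_regular (B : Type u) [CommRing B] [IsRegularLocalRing B] : LocCoh.IsCohenMacaulayLocalRing B :=
  { supportDim_eq_depth := CotTLib.isCM_of_isRegularLocalRing B }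

end Groth.Agent.H9Mult

end
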