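import Groth.Agent.H9Mult.TorVanish
import Groth.Agent.RegLoc6.Pd

/-! Multiplicity of Cohen–Macaulay quotients meeting properly. -/

set_option autoImplicit false
set_option linter.style.haveILetI false
set_option backward.isDefEq.respectTransparency false
set_option backward.isDefEq.respectTransparency.types false

universe u

open CategoryTheory IsLocalRing

noncomputable section

namespace Groth.Agent.H9Mult

open Groth.Agent Groth.Agent.RegLoc6

variable {A : Type u} [CommRing A]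

/-- Dimension and depth of a Cohen–Macaulay quotient. -/
theorem depth_quot [IsLocalRing A] [IsNoetherianRing A] {I : Ideal A}
    (h : LocCoh.IsCohenMacaulayLocalRing (A ⧸ I)) {d : ℕ} (hd : ringKrullDim (A ⧸ I) = d) :
    LocCoh.depth A (A ⧸ I) = d := by
  haveI := h
  have h1 := h.supportDim_eq_depth
  rw [Module.supportDim_self_eq_ringKrullDim, hd] at h1
  rw [Alg6.depth_eq_of_semilinear (Ideal.Quotient.mk I) Ideal.Quotient.mk_surjective (AddEquiv.refl (A ⧸ I))
    fun r x => rfl]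
  exact (WithBot.coe_injective h1).symm

/-- Tor independence and the Euler characteristic of two Cohen–Macaulay quotients meeting properly. -/
theorem chi_eq_length [IsRegularLocalRing A] (I J : Ideal A) (hI : LocCoh.IsCohenMacaulayLocalRing (A ⧸ I))
    (hJ : LocCoh.IsCohenMacaulayLocalRing (A ⧸ J))
    (hdim : ringKrullDim A ≤ ringKrullDim (A ⧸ I) + ringKrullDim (A ⧸ J))
    (hfin : ∃ e : ℕ, maximalIdeal A ^ e ≤ I ⊔ J) :
    (∀ i, Subsingleton (torObj (i + 1) (ModuleCat.of A (A ⧸ I)) (ModuleCat.of A (A ⧸ J)))) ∧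
      IntMult.chi A (A ⧸ I) (A ⧸ J) = ((Module.length A (A ⧸ (I ⊔ J))).toNat : ℤ) := by
  classical
  haveI := hI
  haveI := hJ
  obtain ⟨e, he⟩ := hfin
  obtain ⟨D, hD⟩ : ∃ D : ℕ, ringKrullDim A = D := ⟨_, ((isRegularLocalRing_iff _).1 inferInstance).symm⟩
  obtain ⟨a, ha⟩ : ∃ a : ℕ, ringKrullDim (A ⧸ I) = a :=
    exists_nat_dim (ringKrullDim_quotient_le I |>.trans hD.le)
  obtain ⟨b, hb⟩ : ∃ b : ℕ, ringKrullDim (A ⧸ J) = b :=
    exists_nat_dim (ringKrullDim_quotient_le J |>.trans hD.le)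
  haveI : Nontrivial (A ⧸ I) := inferInstance
  have hpd0 : PdLE A D (A ⧸ I) := S0563.result A D hD (A ⧸ I)
  have hex : ∃ q, PdLE A q (A ⧸ I) := ⟨D, hpd0⟩
  have hAB := CAlgOdd.AB.depth_add_eq (R := A) (Nat.find hex) (A ⧸ I) (Nat.find_spec hex) fun q hq => Nat.find_min hex hq
  rw [depth_quot hI ha] at hAB
  have hA : LocCoh.depth A A ≤ (D : ℕ∞) := by
    rw [← WithBot.coe_le_coe]
    refine le_trans ?_ hD.le
    rw [← Module.supportDim_self_eq_ringKrullDim]
    exact LC.depth_le_supportDim (R := A) A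
  have hq : Nat.find hex ≤ b := by
    have h1 : ((a : ℕ∞) + (Nat.find hex : ℕ)) ≤ (D : ℕ∞) := hAB ▸ hA
    rw [hD, ha, hb] at hdim
    have h2 : D ≤ a + b := by exact_mod_cast hdim
    have h3 : a + Nat.find hex ≤ D := by exact_mod_cast h1
    omega
  have hv := (tor_vanish (A ⧸ J) b e (depth_quot hJ hb).ge (Nat.find hex) (A ⧸ I) hq (Nat.find_spec hex)
    fun i r hr t => mem_annihilator_tor_of_mem_sup (i + 1) (by
      show r ∈ Module.annihilator A (A ⧸ I) ⊔ Module.annihilator A (A ⧸ J)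
      rw [Ideal.annihilator_quotient, Ideal.annihilator_quotient]
      exact he hr) t).1
  exact ⟨hv, chi_of_vanish I J hv⟩
where
  exists_nat_dim {R : Type u} [CommRing R] [Nontrivial R] {D : ℕ} (h : ringKrullDim R ≤ (D : ℕ)) :
      ∃ a : ℕ, ringKrullDim R = a := by
    have h0 : (0 : WithBot ℕ∞) ≤ ringKrullDim R := ringKrullDim_nonneg_of_nontrivial
    obtain ⟨x, hx⟩ := WithBot.ne_bot_iff_exists.1 (ne_bot_of_le_ne_bot (by simp) h0 : ringKrullDim R ≠ ⊥)
    rw [← hx] at h ⊢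
    have hx' : x ≤ (D : ℕ∞) := WithBot.coe_le_coe.1 h
    obtain ⟨a, ha⟩ := ENat.ne_top_iff_exists.1 (ne_top_of_le_ne_top (ENat.natCast_ne_top D) hx')
    exact ⟨a, by rw [← ha]; rfl⟩

end Groth.Agent.H9Mult

end
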