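import Groth.Agent.H9Mult.Quot
import Groth.Agent.H9DimInt.Basic
import Groth.Agent.Div21Lib.StalkIdeal
import Groth.Agent.GrpSchLib.SmoothRegular
import Groth.Prelude.Def_IntMult

/-! Local algebra at a component of a proper intersection in a smooth variety. -/

set_option autoImplicit false
set_option linter.style.haveILetI false
set_option backward.isDefEq.respectTransparency false
set_option backward.isDefEq.respectTransparency.types false
set_option maxHeartbeats 1000000

universe u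

open AlgebraicGeometry CategoryTheory Limits TopologicalSpace

noncomputable section

namespace Groth.Agent.H9Mult

open Groth.Agent DimFormula

variable {X : Scheme.{u}}

theorem stalkIdeal_eq (I : X.IdealSheafData) (U : X.affineOpens) {x : X} (hx : x ∈ U.1) :
    IntMult.stalkIdeal I x = (I.ideal U).map (X.presheaf.germ U.1 x hx).hom :=
  le_antisymm (iSup₂_le fun V hV => (Div21Lib.map_germ_eq I V U hV hx).le)
    (le_iSup₂ (f := fun (V : X.affineOpens) (hV : x ∈ (V : X.Opens)) => (I.ideal V).map (X.presheaf.germ V x hV).hom) U hx)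

/-- The stalk of an ideal sheaf is the kernel of the stalk map of its subscheme. -/
theorem stalkIdeal_eq_ker (I : X.IdealSheafData) (d : ↥I.subscheme) :
    IntMult.stalkIdeal I (I.subschemeι d) = RingHom.ker (I.subschemeι.stalkMap d).hom := by
  obtain ⟨U', hU', hdU', -⟩ := exists_isAffineOpen_mem_and_subset (x := I.subschemeι d) (U := ⊤) trivial
  let U : X.affineOpens := ⟨U', hU'⟩
  have hdU : I.subschemeι d ∈ U.1 := hdU'
  rw [stalkIdeal_eq I U hdU]
  let p := (U.2.primeIdealOf ⟨I.subschemeι d, hdU⟩).asIdeal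
  let _ := X.presheaf.algebra_section_stalk (⟨I.subschemeι d, hdU⟩ : U.1)
  have : IsLocalization.AtPrime (X.presheaf.stalk (I.subschemeι d)) p :=
    U.2.isLocalization_stalk ⟨I.subschemeι d, hdU⟩
  have key : ∀ b : Γ(X, U.1), I.subschemeι.stalkMap d (X.presheaf.germ U.1 _ hdU b) =
      I.subscheme.presheaf.germ (I.subschemeι ⁻¹ᵁ U.1) d hdU (I.subschemeι.app U.1 b) := fun b =>
    Scheme.Hom.germ_stalkMap_apply I.subschemeι U.1 d hdU b
  have hker : ∀ b, b ∈ I.ideal U ↔ I.subschemeι.app U.1 b = 0 := fun b => by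
    rw [← I.ker_subschemeι_app U]; rfl
  refine le_antisymm (Ideal.map_le_iff_le_comap.2 fun b hb => ?_) fun s hs => ?_
  · show I.subschemeι.stalkMap d (X.presheaf.germ U.1 _ hdU b) = 0
    rw [key, (hker b).1 hb, map_zero]
  obtain ⟨⟨b, c⟩, hbc⟩ := IsLocalization.surj p.primeCompl s
  have hb : I.subscheme.presheaf.germ (I.subschemeι ⁻¹ᵁ U.1) d hdU (I.subschemeι.app U.1 b) = 0 := by
    rw [← key]
    show (I.subschemeι.stalkMap d).hom (algebraMap Γ(X, U.1) _ b) = 0
    rw [← hbc, map_mul, RingHom.mem_ker.1 hs, zero_mul]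
  have hV : IsAffineOpen (I.subschemeι ⁻¹ᵁ U.1) := U.2.preimage _
  let q := (hV.primeIdealOf ⟨d, hdU⟩).asIdeal
  let _ := I.subscheme.presheaf.algebra_section_stalk (⟨d, hdU⟩ : (I.subschemeι ⁻¹ᵁ U.1 : I.subscheme.Opens))
  have : IsLocalization.AtPrime (I.subscheme.presheaf.stalk d) q := hV.isLocalization_stalk ⟨d, hdU⟩
  obtain ⟨⟨c', hc'⟩, h0⟩ := (IsLocalization.map_eq_zero_iff q.primeCompl (I.subscheme.presheaf.stalk d)
    (I.subschemeι.app U.1 b)).1 hb
  obtain ⟨e, rfl⟩ := I.subschemeι_app_surjective U c'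
  have he : IsUnit (algebraMap Γ(X, U.1) (X.presheaf.stalk (I.subschemeι d)) e) := by
    refine isUnit_of_map_unit (I.subschemeι.stalkMap d).hom _ ?_
    show IsUnit (I.subschemeι.stalkMap d (X.presheaf.germ U.1 _ hdU e))
    rw [key]
    exact IsLocalization.map_units (I.subscheme.presheaf.stalk d) (⟨_, hc'⟩ : q.primeCompl)
  have hmem : algebraMap Γ(X, U.1) (X.presheaf.stalk (I.subschemeι d)) (e * b) ∈
      (I.ideal U).map (X.presheaf.germ U.1 _ hdU).hom :=
    Ideal.mem_map_of_mem _ ((hker _).2 (by rw [map_mul]; exact h0))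
  rw [map_mul, Ideal.unit_mul_mem_iff_mem _ he, ← hbc,
    Ideal.mul_unit_mem_iff_mem _ (IsLocalization.map_units _ c)] at hmem
  exact hmem

theorem stalk_quot_equiv (I : X.IdealSheafData) (d : ↥I.subscheme) :
    Nonempty (X.presheaf.stalk (I.subschemeι d) ⧸ IntMult.stalkIdeal I (I.subschemeι d) ≃+*
      I.subscheme.presheaf.stalk d) :=
  ⟨(Ideal.quotEquivOfEq (stalkIdeal_eq_ker I d)).trans
    (RingHom.quotientKerEquivOfSurjective (I.subschemeι.stalkMap_surjective d))⟩

/-- The maximal ideal is the radical of the two ideals at an isolated generalisation. -/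
theorem exists_pow_le [IsLocallyNoetherian X] (IV IW : X.IdealSheafData) (ξ : X)
    (hmax : ∀ ξ' : X, ξ' ∈ IV.support → ξ' ∈ IW.support → ξ' ⤳ ξ → ξ' = ξ) :
    ∃ e : ℕ, IsLocalRing.maximalIdeal (X.presheaf.stalk ξ) ^ e ≤
      IntMult.stalkIdeal IV ξ ⊔ IntMult.stalkIdeal IW ξ := by
  obtain ⟨U', hU', hξU', -⟩ := exists_isAffineOpen_mem_and_subset (x := ξ) (U := ⊤) trivial
  let U : X.affineOpens := ⟨U', hU'⟩
  have hξU : ξ ∈ U.1 := hξU'
  rw [stalkIdeal_eq IV U hξU, stalkIdeal_eq IW U hξU]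
  let P := U.2.primeIdealOf ⟨ξ, hξU⟩
  letI : Algebra Γ(X, U.1) (X.presheaf.stalk ξ) := (X.presheaf.germ U.1 ξ hξU).hom.toAlgebra
  haveI : IsLocalization.AtPrime (X.presheaf.stalk ξ) P.asIdeal := U.2.isLocalization_stalk ⟨ξ, hξU⟩
  haveI : IsNoetherianRing (X.presheaf.stalk ξ) := inferInstance
  refine Ideal.exists_pow_le_of_le_radical_of_fg ?_ (IsNoetherian.noetherian _)
  rw [Ideal.radical_eq_sInf]
  refine le_sInf fun Q hQ => ?_
  haveI := hQ.2
  simp only [Set.mem_setOf_eq, sup_le_iff, Ideal.map_le_iff_le_comap] at hQ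
  let q : Spec Γ(X, U.1) := (⟨Q.comap (algebraMap Γ(X, U.1) _), inferInstance⟩ : PrimeSpectrum Γ(X, U.1))
  have hqP : q.asIdeal ≤ P.asIdeal := by
    rw [← IsLocalization.AtPrime.under_maximalIdeal (X.presheaf.stalk ξ) P.asIdeal]
    exact Ideal.comap_mono (IsLocalRing.le_maximalIdeal hQ.2.ne_top)
  have hy : U.2.fromSpec q ∈ U.1 := VarDim.fromSpec_mem U.2 q
  have hsupp : ∀ I : X.IdealSheafData, I.ideal U ≤ q.asIdeal → U.2.fromSpec q ∈ I.support := fun I hI => by
    rw [Scheme.IdealSheafData.mem_support_iff_of_mem hy]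
    have hmem : U.2.fromSpec q ∈ U.2.fromSpec '' PrimeSpectrum.zeroLocus (I.ideal U) := ⟨q, hI, rfl⟩
    rw [U.2.fromSpec_image_zeroLocus] at hmem
    exact hmem.1
  have heq := hmax _ (hsupp IV hQ.1.1) (hsupp IW hQ.1.2)
    (((VarDim.fromSpec_specializes_iff U.2 q P).2 hqP).trans (specializes_of_eq (U.2.fromSpec_primeIdealOf ⟨ξ, hξU⟩)))
  have hqe : q = P := by
    apply U.2.fromSpec.isOpenEmbedding.injective
    rw [heq]; exact (U.2.fromSpec_primeIdealOf ⟨ξ, hξU⟩).symm
  intro a ha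
  obtain ⟨⟨b, c⟩, hbc⟩ := IsLocalization.surj P.asIdeal.primeCompl a
  have hb : b ∈ q.asIdeal := by
    rw [hqe, ← IsLocalization.AtPrime.to_map_mem_maximal_iff (X.presheaf.stalk ξ) P.asIdeal, ← hbc]
    exact Ideal.mul_mem_right _ _ ha
  have h1 : algebraMap Γ(X, U.1) (X.presheaf.stalk ξ) b ∈ Q := hb
  rwa [← hbc, Ideal.mul_unit_mem_iff_mem _ (IsLocalization.map_units _ c)] at h1

variable {K : Type u} [Field K] (f : X ⟶ Spec (CommRingCat.of K))

/-- The dimension formula on an integral variety. -/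
theorem codim_add_rd [LocallyOfFiniteType f] [IsIntegral X] {n : ℕ} (hn : topologicalKrullDim X = n) (z : X) :
    ∃ c d : ℕ, ringKrullDim (X.presheaf.stalk z) = c ∧ FibDim.rd f z = d ∧ c + d = n := by
  haveI := FibDim.subsingleton_spec_field K
  haveI : IsLocallyNoetherian X := LocallyOfFiniteType.isLocallyNoetherian f
  obtain ⟨η, hη, hmaxη, he⟩ := exists_maximal_cd_eq_codim z
  have h := (cd_formula f hη).2 (H9DiagReg.codim_eq_of_closed.isUniversallyCatenary_of_stalk K _)
  have h2 : cd (f η) (f z) = 0 := by rw [Subsingleton.elim (f η) (f z)]; exact cd_self _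
  have h3 : FibDim.rd f η = n := by
    have h4 := FibDim.topologicalKrullDim_closure f η
    have h5 : closure ({η} : Set X) = Set.univ := by
      have h6 := FDescent.closure_mem_irreducibleComponents hmaxη
      rw [irreducibleComponents_eq_singleton, Set.mem_singleton_iff] at h6
      exact h6
    rw [h5, (Homeomorph.Set.univ X).isHomeomorph.topologicalKrullDim_eq, hn] at h4
    exact_mod_cast h4.symm
  exact ⟨codim z, FibDim.rd f z, by rw [ringKrullDim_stalk], rfl, by omega⟩

/-- Everything the local algebra needs at the generic point of a component of a proper intersection. -/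
theorem local_data [Smooth f] [QuasiCompact f] [IsIntegral X] (IV IW : X.IdealSheafData) [IsIntegral IV.subscheme]
    [IsIntegral IW.subscheme] (n r s : ℕ) (hn : topologicalKrullDim X = n) (hr : topologicalKrullDim IV.support = r)
    (hs : topologicalKrullDim IW.support = s)
    (hprop : IntMult.ProperInt (IV.support : Set X) (IW.support : Set X) n r s) (ξ : X) (hξV : ξ ∈ IV.support)
    (hξW : ξ ∈ IW.support) :
    IsRegularLocalRing (X.presheaf.stalk ξ) ∧
    ∃ D a b : ℕ, ringKrullDim (X.presheaf.stalk ξ) = D ∧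
      ringKrullDim (X.presheaf.stalk ξ ⧸ IntMult.stalkIdeal IV ξ) = a ∧
      ringKrullDim (X.presheaf.stalk ξ ⧸ IntMult.stalkIdeal IW ξ) = b ∧ D ≤ a + b := by
  haveI := FibDim.subsingleton_spec_field K
  refine ⟨GrpSchLib.isRegularLocalRing_stalk_of_smooth f ξ, ?_⟩
  obtain ⟨D, d, hD, hd, hDd⟩ := codim_add_rd f hn ξ
  have hsub : ∀ (I : X.IdealSheafData) [IsIntegral I.subscheme] (t : ℕ), topologicalKrullDim I.support = t →
      ξ ∈ I.support → ∃ a : ℕ, ringKrullDim (X.presheaf.stalk ξ ⧸ IntMult.stalkIdeal I ξ) = a ∧ a + d = t := by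
    intro I _ t ht hξ
    obtain ⟨v, rfl⟩ : ξ ∈ Set.range I.subschemeι := by rw [I.range_subschemeι]; exact hξ
    have hdim : topologicalKrullDim ↥I.subscheme = t := by
      rw [← ht]
      exact ((I.subschemeι.isEmbedding.toHomeomorph).trans
        (Homeomorph.setCongr I.range_subschemeι)).isHomeomorph.topologicalKrullDim_eq
    obtain ⟨a, d', ha, hd', had⟩ := codim_add_rd (I.subschemeι ≫ f) hdim v
    obtain ⟨e⟩ := stalk_quot_equiv I v
    refine ⟨a, (ringKrullDim_eq_of_ringEquiv e).trans ha, ?_⟩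
    rw [FibDim.rd_comp, FibDim.rd_eq_zero_of_quasiFinite I.subschemeι, add_zero, hd] at hd'
    omega
  obtain ⟨a, ha, had⟩ := hsub IV r hr hξV
  obtain ⟨b, hb, hbd⟩ := hsub IW s hs hξW
  obtain ⟨hnrs, hle⟩ := hprop ⟨ξ, hξV, hξW⟩
  have hclo : closure ({ξ} : Set X) ⊆ (IV.support : Set X) ∩ IW.support :=
    (IV.support.isClosed.inter IW.support.isClosed).closure_subset_iff.2 (Set.singleton_subset_iff.2 ⟨hξV, hξW⟩)
  have h1 : topologicalKrullDim ↥(closure ({ξ} : Set X)) ≤ ((r + s - n : ℕ) : WithBot ℕ∞) :=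
    (Topology.IsEmbedding.inclusion hclo).isInducing.topologicalKrullDim_le.trans hle
  rw [FibDim.topologicalKrullDim_closure f ξ, hd] at h1
  have h2 : d ≤ r + s - n := Nat.cast_le.1 (WithBot.coe_le_coe.1 h1)
  exact ⟨D, a, b, hD, ha, hb, by omega⟩

/-- The multiplicity of two Cohen–Macaulay subvarieties is the length of the intersection. -/
theorem mult_eq_length [Smooth f] [QuasiCompact f] [IsIntegral X] (IV IW : X.IdealSheafData)
    [IsIntegral IV.subscheme] [IsIntegral IW.subscheme] (n r s : ℕ) (hn : topologicalKrullDim X = n)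
    (hr : topologicalKrullDim IV.support = r) (hs : topologicalKrullDim IW.support = s)
    (hprop : IntMult.ProperInt (IV.support : Set X) (IW.support : Set X) n r s) (ξ : X) (hξV : ξ ∈ IV.support)
    (hξW : ξ ∈ IW.support) (hmax : ∀ ξ' : X, ξ' ∈ IV.support → ξ' ∈ IW.support → ξ' ⤳ ξ → ξ' = ξ)
    (hV : LocCoh.IsCohenMacaulayLocalRing (↑(X.presheaf.stalk ξ) ⧸ IntMult.stalkIdeal IV ξ))
    (hW : LocCoh.IsCohenMacaulayLocalRing (↑(X.presheaf.stalk ξ) ⧸ IntMult.stalkIdeal IW ξ)) :
    (IntMult.mult IV IW ξ : ℤ) = (Module.length (X.presheaf.stalk ξ)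
      (↑(X.presheaf.stalk ξ) ⧸ (IntMult.stalkIdeal IV ξ ⊔ IntMult.stalkIdeal IW ξ))).toNat := by
  haveI : IsLocallyNoetherian X := LocallyOfFiniteType.isLocallyNoetherian f
  obtain ⟨hreg, D, a, b, hD, ha, hb, hle⟩ := local_data f IV IW n r s hn hr hs hprop ξ hξV hξW
  haveI := hreg
  obtain ⟨e, he⟩ := exists_pow_le IV IW ξ hmax
  have h := (chi_eq_length (IntMult.stalkIdeal IW ξ) (IntMult.stalkIdeal IV ξ) hW hV
    (by rw [hD, ha, hb]; exact_mod_cast (by omega : D ≤ b + a)) ⟨e, he.trans_eq (sup_comm _ _)⟩).2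
  rw [sup_comm (IntMult.stalkIdeal IV ξ)]
  exact h

end Groth.Agent.H9Mult

end
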